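import Mathlib
import Groth.Agent.Lib.Helper1.ConstrL

set_option autoImplicit false
set_option linter.style.haveILetI false
set_option linter.unusedVariables false
set_option linter.unusedSectionVars false
set_option backward.isDefEq.respectTransparency.types false

open CategoryTheory CategoryTheory.Limits AlgebraicGeometry Opposite Topology TopologicalSpace

universe u

/-! helper7: topological properties of the traces of subsets on the fibres of a morphism: the
locus of such a property, its compatibility with base change, and a dense open part of a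
constructible set inside its closure. -/

namespace Groth.Agent.Helper7.FibTop

/-- a property of pairs of subsets of a topological space which is invariant under continuous
open surjections. -/
def TopInv (Pr : ∀ (T : Type u) [TopologicalSpace T], Set T → Set T → Prop) : Prop :=
  ∀ (T T' : Type u) [TopologicalSpace T] [TopologicalSpace T'] (q : T' → T),
    Continuous q → IsOpenMap q → Function.Surjective q →
      ∀ A B : Set T, Pr T' (q ⁻¹' A) (q ⁻¹' B) ↔ Pr T A B

/-- the set of points of the base over which the traces of two subsets on the fibre satisfy a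
topological property. -/
def locusTop (Pr : ∀ (T : Type u) [TopologicalSpace T], Set T → Set T → Prop) {X S : Scheme.{u}}
    (f : X ⟶ S) (Z Z' : Set X) : Set S :=
  {s | Pr (f.fiber s) ((f.fiberι s) ⁻¹' Z) ((f.fiberι s) ⁻¹' Z')}

set_option backward.isDefEq.respectTransparency false in
/-- the fibres of a base change map onto the fibres by a continuous open surjection. -/
theorem exists_fibre_map {X S X' S' : Scheme.{u}} {f : X ⟶ S} {f' : X' ⟶ S'} {pX : X' ⟶ X}
    {π : S' ⟶ S} (h : IsPullback pX f' f π) (s' : S') :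
    ∃ ψ : f'.fiber s' ⟶ f.fiber (π s'), ψ ≫ f.fiberι (π s') = f'.fiberι s' ≫ pX ∧
      IsOpenMap ψ ∧ Function.Surjective ψ := by
  obtain ⟨ψ, hP, hψι⟩ : ∃ ψ : f'.fiber s' ⟶ f.fiber (π s'),
      IsPullback ψ (f'.fiberToSpecResidueField s') (f.fiberToSpecResidueField (π s'))
        (Spec.map (π.residueFieldMap s')) ∧
      ψ ≫ f.fiberι (π s') = f'.fiberι s' ≫ pX :=
    ⟨_, isPullback_fiberToSpecResidueField_of_isPullback h s', pullback.lift_fst _ _ _⟩
  haveI : UniversallyOpen (Spec.map (π.residueFieldMap s')) := inferInstance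
  haveI hψ : UniversallyOpen ψ :=
    MorphismProperty.of_isPullback (P := @UniversallyOpen) hP.flip inferInstance
  have hs : Surjective (Spec.map (π.residueFieldMap s')) :=
    ⟨fun t => ⟨Classical.arbitrary _, Subsingleton.elim _ _⟩⟩
  have hψs : Surjective ψ := MorphismProperty.of_isPullback (P := @Surjective) hP.flip hs
  exact ⟨ψ, hψι, ψ.isOpenMap, hψs.surj⟩

/-- the locus of a topological property of the fibres commutes with base change. -/
theorem locusTop_eq_preimage {Pr : ∀ (T : Type u) [TopologicalSpace T], Set T → Set T → Prop}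
    (hPr : TopInv Pr) {X S X' S' : Scheme.{u}} {f : X ⟶ S} {f' : X' ⟶ S'} {pX : X' ⟶ X}
    {π : S' ⟶ S} (h : IsPullback pX f' f π) (Z Z' : Set X) :
    locusTop Pr f' (pX ⁻¹' Z) (pX ⁻¹' Z') = π ⁻¹' locusTop Pr f Z Z' := by
  ext s'
  obtain ⟨ψ, hψι, hψo, hψs⟩ := exists_fibre_map h s'
  have key : ∀ W : Set X, (f'.fiberι s') ⁻¹' (pX ⁻¹' W) = ψ ⁻¹' ((f.fiberι (π s')) ⁻¹' W) := by
    intro W
    ext t
    have := congrArg (fun φ => φ.base t) hψι
    simp only [Scheme.Hom.comp_base, TopCat.comp_app] at this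
    simp only [Set.mem_preimage]
    rw [this]
  change Pr _ _ _ ↔ Pr _ _ _
  rw [key Z, key Z']
  exact hPr _ _ ψ ψ.continuous hψo hψs _ _

/-- the range of the second projection of a cartesian square. -/
theorem range_snd_of_isPullback {P X Y Z : Scheme.{u}} {a : P ⟶ X} {b : P ⟶ Y} {c : X ⟶ Z}
    {d : Y ⟶ Z} (h : IsPullback a b c d) : Set.range b = d ⁻¹' Set.range c := by
  rw [← Scheme.Pullback.range_snd]
  apply Set.Subset.antisymm
  · rintro _ ⟨p, rfl⟩
    refine ⟨h.isoPullback.hom p, ?_⟩
    rw [← Scheme.Hom.comp_apply, h.isoPullback_hom_snd]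
  · rintro _ ⟨p, rfl⟩
    refine ⟨h.isoPullback.inv p, ?_⟩
    rw [← Scheme.Hom.comp_apply, h.isoPullback_inv_snd]

/-- a constructible set contains an open subset of its closure which is dense in it. -/
theorem exists_open_dense {X : Type*} [TopologicalSpace X] {Z : Set X} (hZ : IsConstructible Z) :
    ∃ O : Set X, IsOpen O ∧ O ∩ closure Z ⊆ Z ∧ closure Z ⊆ closure (O ∩ Z) := by
  have key : ∀ Z : Set X, Groth.Agent.Helper1.ConstrL.NF Z →
      ∃ O : Set X, IsOpen O ∧ O ∩ closure Z ⊆ Z ∧ closure Z ⊆ closure (O ∩ Z) := by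
    intro Z hZ
    induction hZ with
    | piece U V hU hV =>
      refine ⟨U, hU.1, ?_, ?_⟩
      · rintro x ⟨hxU, hxc⟩
        have hcl : closure (U ∩ Vᶜ) ⊆ Vᶜ :=
          closure_minimal Set.inter_subset_right hV.1.isClosed_compl
        exact ⟨hxU, hcl hxc⟩
      · apply closure_mono
        intro x hx
        exact ⟨hx.1, hx⟩
    | union s t _ _ ihs iht =>
      obtain ⟨Os, hOs, hs1, hs2⟩ := ihs
      obtain ⟨Ot, hOt, ht1, ht2⟩ := iht
      refine ⟨(Os ∩ (closure t)ᶜ) ∪ (Ot ∩ (closure s)ᶜ) ∪ (Os ∩ Ot), ?_, ?_, ?_⟩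
      · exact ((hOs.inter isClosed_closure.isOpen_compl).union
          (hOt.inter isClosed_closure.isOpen_compl)).union (hOs.inter hOt)
      · rw [closure_union]
        rintro x ⟨((⟨hxs, hxt⟩ | ⟨hxt, hxs⟩) | ⟨hxs, hxt⟩), (hc | hc)⟩
        · exact Or.inl (hs1 ⟨hxs, hc⟩)
        · exact absurd hc hxt
        · exact absurd hc hxs
        · exact Or.inr (ht1 ⟨hxt, hc⟩)
        · exact Or.inl (hs1 ⟨hxs, hc⟩)
        · exact Or.inr (ht1 ⟨hxt, hc⟩)
      · rw [closure_union]
        apply Set.union_subset
        · refine hs2.trans (closure_minimal ?_ isClosed_closure)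
          rintro x ⟨hxO, hxs⟩
          by_cases hxt : x ∈ closure t
          · have h1 : x ∈ Os ∩ closure (Ot ∩ t) := ⟨hxO, ht2 hxt⟩
            have h2 := hOs.inter_closure h1
            refine closure_mono ?_ h2
            rintro y ⟨hyOs, hyOt, hyt⟩
            exact ⟨Or.inr ⟨hyOs, hyOt⟩, Or.inr hyt⟩
          · exact subset_closure ⟨Or.inl (Or.inl ⟨hxO, hxt⟩), Or.inl hxs⟩
        · refine ht2.trans (closure_minimal ?_ isClosed_closure)
          rintro x ⟨hxO, hxt⟩
          by_cases hxs : x ∈ closure s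
          · have h1 : x ∈ Ot ∩ closure (Os ∩ s) := ⟨hxO, hs2 hxs⟩
            have h2 := hOt.inter_closure h1
            refine closure_mono ?_ h2
            rintro y ⟨hyOt, hyOs, hys⟩
            exact ⟨Or.inr ⟨hyOs, hyOt⟩, Or.inl hys⟩
          · exact subset_closure ⟨Or.inl (Or.inr ⟨hxO, hxs⟩), Or.inr hxt⟩
  exact key Z (Groth.Agent.Helper1.ConstrL.nf_of_isConstructible hZ)

end Groth.Agent.Helper7.FibTop
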