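import Mathlib
import Groth.Agent.Lib.Helper7.FibTop.Basic
import Groth.Agent.Lib.Helper7.NowDense.Main
import Groth.Agent.Lib.Helper7.ConsMor.Cons

set_option autoImplicit false
set_option linter.style.haveILetI false
set_option linter.unusedVariables false
set_option linter.unusedSectionVars false
set_option backward.isDefEq.respectTransparency.types false

open CategoryTheory CategoryTheory.Limits AlgebraicGeometry Opposite Topology TopologicalSpace

universe u

/-! helper7: over a nonempty open of an irreducible base, dense open subsets have dense traces on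
the fibres and closures of constructible subsets commute with passing to the fibres (EGA IV
9.5.3, generic part). -/

namespace Groth.Agent.Helper7.FibTop

/-- a dense open subset of a Noetherian scheme of finite type over an irreducible scheme has
dense traces on the fibres over a nonempty open of the base. -/
theorem dense_fibres_near_generic {X S : Scheme.{u}} (f : X ⟶ S) [IrreducibleSpace S]
    [LocallyOfFiniteType f] [QuasiCompact f] [NoetherianSpace X] (O : Set X) (hO : IsOpen O)
    (hd : Dense O) :
    ∃ V : S.Opens, genericPoint S ∈ V ∧ ∀ s ∈ V, Dense ((f.fiberι s) ⁻¹' O) := by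
  have hN : IsClosed Oᶜ := hO.isClosed_compl
  have hnd : IsNowhereDense ((f.fiberι (genericPoint S)) ⁻¹' Oᶜ) := by
    have hcl : IsClosed ((f.fiberι (genericPoint S)) ⁻¹' Oᶜ) :=
      hN.preimage (f.fiberι _).continuous
    rw [hcl.isNowhereDense_iff]
    by_contra hne
    obtain ⟨t, ht⟩ := Set.nonempty_iff_ne_empty.mpr hne
    obtain ⟨O', hO', hOeq⟩ :=
      (f.fiberι (genericPoint S)).isEmbedding.isInducing.isOpen_iff.mp
        (isOpen_interior (s := (f.fiberι (genericPoint S)) ⁻¹' Oᶜ))
    obtain ⟨y, hy⟩ : ∃ y, y = f.fiberι (genericPoint S) t := ⟨_, rfl⟩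
    have hyO' : y ∈ O' := by
      rw [← hOeq] at ht
      rw [hy]
      exact ht
    have hCirr : IsIrreducible (irreducibleComponent y) := isIrreducible_irreducibleComponent
    have hCcl : IsClosed (irreducibleComponent y) := isClosed_irreducibleComponent
    obtain ⟨ξ, hξ⟩ := QuasiSober.sober hCirr hCcl
    have hξy : ξ ⤳ y := hξ.specializes mem_irreducibleComponent
    have hξO' : ξ ∈ O' := hξy.mem_open hO' hyO'
    have hfξ : f ξ = genericPoint S := by
      have h1 : f ξ ⤳ f y := hξy.map f.continuous
      have h2 : f y = genericPoint S := by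
        have : y ∈ Set.range (f.fiberι (genericPoint S)) := ⟨t, hy.symm⟩
        rwa [Scheme.Hom.range_fiberι] at this
      rw [h2] at h1
      exact (h1.antisymm (genericPoint_specializes _)).eq
    have hξr : ξ ∈ Set.range (f.fiberι (genericPoint S)) := by
      rw [Scheme.Hom.range_fiberι]; exact hfξ
    obtain ⟨t', ht'ξ⟩ := hξr
    have ht' : t' ∈ interior ((f.fiberι (genericPoint S)) ⁻¹' Oᶜ) := by
      rw [← hOeq]
      change f.fiberι (genericPoint S) t' ∈ O'
      rw [ht'ξ]; exact hξO'
    have hξN : ξ ∈ Oᶜ := by
      have := interior_subset ht'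
      rw [Set.mem_preimage, ht'ξ] at this
      exact this
    have hCN : irreducibleComponent y ⊆ Oᶜ := by
      rw [← hξ.def]
      exact closure_minimal (Set.singleton_subset_iff.mpr hξN) hN
    obtain ⟨o, ho, hone, hoC⟩ :=
      NoetherianSpace.exists_isOpen_nonempty_subset_irreducibleComponent (irreducibleComponent y)
        (irreducibleComponent_mem_irreducibleComponents y)
    obtain ⟨z, hz1, hz2⟩ := hd.inter_open_nonempty o ho hone
    exact hCN (hoC hz1) hz2
  obtain ⟨V, hV, hVnd⟩ := Groth.Agent.Helper7.NowDense.nowhereDense_fibres_near_generic f Oᶜ hN hnd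
  refine ⟨V, hV, fun s hs => ?_⟩
  have h1 := hVnd s hs
  have hcl : IsClosed ((f.fiberι s) ⁻¹' Oᶜ) := hN.preimage (f.fiberι s).continuous
  rw [hcl.isNowhereDense_iff, interior_eq_empty_iff_dense_compl] at h1
  rw [Set.preimage_compl, compl_compl] at h1
  exact h1

set_option backward.isDefEq.respectTransparency false in
/-- over a nonempty open of an irreducible base, taking the trace on the fibre of a constructible
subset of a Noetherian scheme of finite type commutes with closure. -/
theorem closure_fibre_eq_near_generic {X S : Scheme.{u}} (f : X ⟶ S) [IrreducibleSpace S]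
    [LocallyOfFiniteType f] [QuasiCompact f] [IsLocallyNoetherian X] [CompactSpace X]
    (Z : Set X) (hZ : IsConstructible Z) :
    ∃ V : S.Opens, genericPoint S ∈ V ∧
      ∀ s ∈ V, closure ((f.fiberι s) ⁻¹' Z) = (f.fiberι s) ⁻¹' (closure Z) := by
  obtain ⟨O, hO, hO1, hO2⟩ := exists_open_dense hZ
  let C : Closeds X := ⟨closure Z, isClosed_closure⟩
  obtain ⟨T, i, hi, hrange⟩ : ∃ (T : Scheme.{u}) (i : T ⟶ X),
      IsClosedImmersion i ∧ Set.range i = closure Z :=
    ⟨_, (Scheme.IdealSheafData.vanishingIdeal C).subschemeι, inferInstance, by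
      rw [Scheme.IdealSheafData.range_subschemeι,
        Scheme.IdealSheafData.coe_support_vanishingIdeal]
      rfl⟩
  haveI : IsLocallyNoetherian T := LocallyOfFiniteType.isLocallyNoetherian i
  haveI : CompactSpace T := QuasiCompact.compactSpace_of_compactSpace i
  haveI : IsNoetherian T := {}
  have hdense : Dense (i ⁻¹' O) := by
    rw [dense_iff_closure_eq, i.isEmbedding.isInducing.closure_eq_preimage_closure_image,
      Set.image_preimage_eq_inter_range, hrange]
    ext t
    simp only [Set.mem_preimage, Set.mem_univ, iff_true]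
    have ht : i t ∈ closure Z := by rw [← hrange]; exact ⟨t, rfl⟩
    refine closure_mono ?_ (hO2 ht)
    rintro x ⟨hxO, hxZ⟩
    exact ⟨hxO, subset_closure hxZ⟩
  obtain ⟨V, hV, hVd⟩ := dense_fibres_near_generic (i ≫ f) (i ⁻¹' O)
    (hO.preimage i.continuous) hdense
  refine ⟨V, hV, fun s hs => ?_⟩
  apply Set.Subset.antisymm
  · exact closure_minimal (Set.preimage_mono subset_closure)
      (isClosed_closure.preimage (f.fiberι s).continuous)
  · intro x hx
    have hpb := Groth.Agent.Helper7.ConsMor.isPullback_fiberMap i f s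
    have hr : Set.range (MoreMor.fiberMap i f s) = (f.fiberι s) ⁻¹' Set.range i :=
      range_snd_of_isPullback hpb
    have hxr : x ∈ Set.range (MoreMor.fiberMap i f s) := by
      rw [hr, hrange]; exact hx
    obtain ⟨t, rfl⟩ := hxr
    have h1 : t ∈ closure (((i ≫ f).fiberι s) ⁻¹' (i ⁻¹' O)) := (hVd s hs) t
    have h2 := image_closure_subset_closure_image (MoreMor.fiberMap i f s).continuous
      (Set.mem_image_of_mem _ h1)
    refine closure_mono ?_ h2
    rintro _ ⟨t', ht', rfl⟩
    have e : f.fiberι s (MoreMor.fiberMap i f s t') = i ((i ≫ f).fiberι s t') := by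
      have := congrArg (fun φ => φ.base t') (Groth.Agent.Helper7.ConsMor.fiberMap_fiberι i f s)
      simpa using this
    change f.fiberι s (MoreMor.fiberMap i f s t') ∈ Z
    rw [e]
    refine hO1 ⟨ht', ?_⟩
    rw [← hrange]
    exact ⟨_, rfl⟩

/-- if a subset of an integral Noetherian scheme is the complement of a constructible set near
the generic point, it or its complement has nonempty interior. -/
theorem generic_of_eq_on_open {S : Scheme.{u}} [IsIntegral S] [IsNoetherian S] {Φ C : Set S}
    (hC : IsConstructible C) (V : S.Opens) (hV : genericPoint S ∈ V)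
    (H : ∀ s ∈ V, (s ∈ Φ ↔ s ∉ C)) :
    (interior Φ).Nonempty ∨ (interior Φᶜ).Nonempty := by
  have hgen : ∀ W : Set S, (interior W).Nonempty → genericPoint S ∈ interior W := by
    rintro W ⟨x, hx⟩
    rw [(genericPoint_spec S).mem_open_set_iff isOpen_interior]
    exact ⟨x, trivial, hx⟩
  rcases Groth.Agent.Helper7.ConsMor.interior_nonempty_or_of_isConstructible hC with h | h
  · right
    refine ⟨genericPoint S, mem_interior.mpr ⟨V ∩ interior C, ?_, V.2.inter isOpen_interior, hV,
      hgen _ h⟩⟩
    rintro s ⟨hsV, hsC⟩ hsΦ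
    exact (H s hsV).mp hsΦ (interior_subset hsC)
  · left
    refine ⟨genericPoint S, mem_interior.mpr ⟨V ∩ interior Cᶜ, ?_, V.2.inter isOpen_interior, hV,
      hgen _ h⟩⟩
    rintro s ⟨hsV, hsC⟩
    exact (H s hsV).mpr (interior_subset hsC)

end Groth.Agent.Helper7.FibTop
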