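import Mathlib
import Groth.Agent.Lib.Helper7.FibTop.Basic
import Groth.Agent.Lib.Helper7.LimCons
import Groth.Agent.Lib.Helper7.LimBC
import Groth.Agent.Lib.Helper7.FGSub2

set_option autoImplicit false
set_option linter.style.haveILetI false
set_option linter.unusedVariables false
set_option linter.unusedSectionVars false
set_option backward.isDefEq.respectTransparency.types false

open CategoryTheory CategoryTheory.Limits AlgebraicGeometry Opposite Topology TopologicalSpace

universe u

/-! helper7: Noetherian models of a morphism of finite presentation over an affine base together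
with constructible subsets of its source. -/

namespace Groth.Agent.Helper7.FibTop

open Groth.Agent.Helper7.LimDesc Groth.Agent.Helper7.LimBC Groth.Agent.Helper7

section Lim

variable {I : Type u} [Category.{u} I] [IsCofiltered I] {D : I ⥤ Scheme.{u}} {c : Cone D}
  (hc : IsLimit c) [∀ {i j : I} (f : i ⟶ j), IsAffineHom (D.map f)]

set_option backward.isDefEq.respectTransparency false in
include hc in
/-- two constructible subsets of the source of a morphism with a model at a finite stage come from
constructible subsets of a later stage of the model. -/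
theorem exists_stage_sets {X : Scheme.{u}} {h : X ⟶ c.pt} {j₀ : I} (M : Model D c h j₀)
    [CompactSpace ↥M.Zj] [QuasiSeparatedSpace ↥M.Zj] (Z Z' : Set X)
    (hZ : IsConstructible Z) (hZ' : IsConstructible Z') :
    ∃ (k : I) (φ : k ⟶ j₀) (Z₀ Z₀' : Set ↥(pullback M.zj (D.map φ))),
      IsConstructible Z₀ ∧ IsConstructible Z₀' ∧ (M.stage φ).q ⁻¹' Z₀ = Z ∧
        (M.stage φ).q ⁻¹' Z₀' = Z' := by
  have hc' := isLimitBcCone hc M.isPullback
  obtain ⟨k₁, -, Z₁, hZ₁, e₁⟩ := LimCons.exists_isConstructible_preimage_eq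
    (bcDiagram D j₀ M.zj) (bcCone M.isPullback) hc' (Over.mk (𝟙 j₀)) Z hZ
  obtain ⟨k₂, -, Z₂, hZ₂, e₂⟩ := LimCons.exists_isConstructible_preimage_eq
    (bcDiagram D j₀ M.zj) (bcCone M.isPullback) hc' (Over.mk (𝟙 j₀)) Z' hZ'
  obtain ⟨k, a, b, -⟩ := IsCofilteredOrEmpty.cone_objs k₁ k₂
  refine ⟨k.left, k.hom, (bcDiagram D j₀ M.zj).map a ⁻¹' Z₁, (bcDiagram D j₀ M.zj).map b ⁻¹' Z₂,
    ((bcDiagram D j₀ M.zj).map a).isConstructible_preimage hZ₁,
    ((bcDiagram D j₀ M.zj).map b).isConstructible_preimage hZ₂, ?_, ?_⟩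
  · have := LimCons.preimage_π_eq (bcDiagram D j₀ M.zj) (bcCone M.isPullback) a Z₁
    rw [e₁] at this
    exact this
  · have := LimCons.preimage_π_eq (bcDiagram D j₀ M.zj) (bcCone M.isPullback) b Z₂
    rw [e₂] at this
    exact this

end Lim

set_option backward.isDefEq.respectTransparency false in
/-- a morphism of finite presentation to an affine scheme together with two constructible subsets
of its source comes by base change from such data over the spectrum of a Noetherian ring. -/
theorem exists_noetherian_model_sets (A : Type u) [CommRing A] {X : Scheme.{u}}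
    (f : X ⟶ Spec (CommRingCat.of A))
    [LocallyOfFinitePresentation f] [QuasiCompact f] [QuasiSeparated f] (Z Z' : Set X)
    (hZ : IsConstructible Z) (hZ' : IsConstructible Z') :
    ∃ (A₀ : Type u) (_ : CommRing A₀) (_ : IsNoetherianRing A₀)
      (π : Spec (CommRingCat.of A) ⟶ Spec (CommRingCat.of A₀)) (X₀ : Scheme.{u})
      (f₀ : X₀ ⟶ Spec (CommRingCat.of A₀)) (q : X ⟶ X₀) (Z₀ Z₀' : Set X₀),
        LocallyOfFinitePresentation f₀ ∧ QuasiCompact f₀ ∧ IsPullback q f f₀ π ∧
        IsConstructible Z₀ ∧ IsConstructible Z₀' ∧ q ⁻¹' Z₀ = Z ∧ q ⁻¹' Z₀' = Z' := by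
  obtain ⟨j₀, ⟨M⟩⟩ := desc_of_finitePresentation (FGSub.isLimit_specCone A).some f
  haveI : CompactSpace ↥M.Zj := QuasiCompact.compactSpace_of_compactSpace M.zj
  haveI : QuasiSeparatedSpace ↥M.Zj := quasiSeparatedSpace_of_quasiSeparated M.zj
  obtain ⟨k, φ, Z₀, Z₀', h1, h2, h3, h4⟩ :=
    exists_stage_sets (FGSub.isLimit_specCone A).some M Z Z' hZ hZ'
  have hN : IsNoetherianRing ↥k.unop.1 := by
    have : Algebra.FiniteType ℤ ↥k.unop.1 := (Subalgebra.fg_iff_finiteType _).mp k.unop.2
    exact Algebra.FiniteType.isNoetherianRing ℤ _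
  exact ⟨↥k.unop.1, inferInstance, hN, (FGSub.specCone A).π.app k, (M.stage φ).Zj, (M.stage φ).zj,
    (M.stage φ).q, Z₀, Z₀', (M.stage φ).lfp, (M.stage φ).qc, (M.stage φ).isPullback, h1, h2, h3, h4⟩

end Groth.Agent.Helper7.FibTop
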