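import Mathlib
import Groth.Agent.Lib.Helper7.FibTop.Model
import Groth.Agent.Lib.Helper7.ConsPair.Top

set_option autoImplicit false
set_option linter.style.haveILetI false
set_option linter.unusedVariables false
set_option linter.unusedSectionVars false
set_option backward.isDefEq.respectTransparency.types false

open CategoryTheory CategoryTheory.Limits AlgebraicGeometry Opposite Topology TopologicalSpace

universe u

/-! helper7: local constructibility of the locus of a topological property of the traces of two
locally constructible subsets on the fibres of a morphism of finite presentation, given its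
invariance under continuous open surjections and its generic behaviour over integral Noetherian
bases (the pattern of EGA IV 9.5.3 and 9.5.4). -/

namespace Groth.Agent.Helper7.FibTop

open Groth.Agent.Helper7.ProConsLib Groth.Agent.Helper7.ConsPair

/-- the generic part of constructibility: over an integral Noetherian base the locus or its
complement contains a nonempty open. -/
def GenericTop (Pr : ∀ (T : Type u) [TopologicalSpace T], Set T → Set T → Prop) : Prop :=
  ∀ {X S : Scheme.{u}} (f : X ⟶ S) [IsIntegral S] [IsNoetherian S] [LocallyOfFiniteType f]
    [QuasiCompact f] (Z Z' : Set X), IsConstructible Z → IsConstructible Z' →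
      (interior (locusTop Pr f Z Z')).Nonempty ∨ (interior (locusTop Pr f Z Z')ᶜ).Nonempty

variable {Pr : ∀ (T : Type u) [TopologicalSpace T], Set T → Set T → Prop}

set_option backward.isDefEq.respectTransparency false in
/-- the locus over a Noetherian affine base. -/
theorem isConstructible_locusTop_noeth (hPr : TopInv Pr) (hgen : GenericTop Pr) (A : Type u)
    [CommRing A] [IsNoetherianRing A] {X : Scheme.{u}} (f : X ⟶ Spec (CommRingCat.of A))
    [LocallyOfFiniteType f] [QuasiCompact f] (Z Z' : Set X) (hZ : IsConstructible Z)
    (hZ' : IsConstructible Z') : IsConstructible (locusTop Pr f Z Z') := by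
  apply isConstructible_of_forall_prime
  intro x
  rw [← locusTop_eq_preimage hPr (IsPullback.of_hasPullback f (primeIncl A x)) Z Z']
  haveI : IsDomain (A ⧸ x.asIdeal) := Ideal.Quotient.isDomain x.asIdeal
  exact hgen (pullback.snd f (primeIncl A x)) _ _
    ((pullback.fst f (primeIncl A x)).isConstructible_preimage hZ)
    ((pullback.fst f (primeIncl A x)).isConstructible_preimage hZ')

set_option backward.isDefEq.respectTransparency false in
/-- the locus of a topological property of the traces of two locally constructible subsets on
the fibres of a morphism of finite presentation is locally constructible. -/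
theorem isLocallyConstructible_locusTop (hPr : TopInv Pr) (hgen : GenericTop Pr)
    {X S : Scheme.{u}} (f : X ⟶ S)
    [LocallyOfFinitePresentation f] [QuasiCompact f] [QuasiSeparated f] (Z Z' : Set X)
    (hZ : IsLocallyConstructible Z) (hZ' : IsLocallyConstructible Z') :
    IsLocallyConstructible (locusTop Pr f Z Z') := by
  apply isLocallyConstructible_of_forall_affineOpen
  intro V hV
  rw [← locusTop_eq_preimage hPr (IsPullback.of_hasPullback f hV.fromSpec) Z Z']
  haveI : CompactSpace ↥(pullback f hV.fromSpec) :=
    QuasiCompact.compactSpace_of_compactSpace (pullback.snd f hV.fromSpec)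
  haveI : QuasiSeparatedSpace ↥(pullback f hV.fromSpec) :=
    quasiSeparatedSpace_of_quasiSeparated (pullback.snd f hV.fromSpec)
  have hZ1 : IsConstructible ((pullback.fst f hV.fromSpec) ⁻¹' Z) :=
    (isLocallyConstructible_preimage _ hZ).isConstructible
  have hZ2 : IsConstructible ((pullback.fst f hV.fromSpec) ⁻¹' Z') :=
    (isLocallyConstructible_preimage _ hZ').isConstructible
  obtain ⟨A₀, _, _, π, X₀, f₀, q, Z₀, Z₀', _, _, hpb, hZ₀, hZ₀', e, e'⟩ :=
    exists_noetherian_model_sets ↑Γ(S, V) (pullback.snd f hV.fromSpec) _ _ hZ1 hZ2
  rw [← e, ← e', locusTop_eq_preimage hPr hpb]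
  exact isLocallyConstructible_preimage π
    (isConstructible_locusTop_noeth hPr hgen A₀ f₀ Z₀ Z₀' hZ₀ hZ₀').isLocallyConstructible

end Groth.Agent.Helper7.FibTop
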