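import Mathlib
import Groth.Agent.Lib.Helper7.FibTop.Main
import Groth.Agent.Lib.Helper7.FibTop.Generic
import Groth.Agent.Lib.Helper2.LfpOfComp

set_option autoImplicit false
set_option linter.style.haveILetI false
set_option linter.unusedVariables false
set_option linter.unusedSectionVars false
set_option backward.isDefEq.respectTransparency.types false

open CategoryTheory CategoryTheory.Limits AlgebraicGeometry Opposite Topology TopologicalSpace

universe u

/-! helper7: the loci where the trace of a locally constructible subset on the fibres is dense in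
that of another one, closed, open or locally closed, and where the morphism of fibres is dominant,
are locally constructible (EGA IV 9.5.3, 9.5.4, 9.6.1 (ii)). -/

namespace Groth.Agent.Helper7.FibTop

/-- the second subset is contained in the closure of the first. -/
def denseIn (T : Type u) [TopologicalSpace T] (A B : Set T) : Prop := B ⊆ closure A

/-- the first subset is closed. -/
def closedFst (T : Type u) [TopologicalSpace T] (A B : Set T) : Prop := IsClosed A

/-- the first subset is open. -/
def openFst (T : Type u) [TopologicalSpace T] (A B : Set T) : Prop := IsOpen A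

/-- the first subset is locally closed. -/
def locClosedFst (T : Type u) [TopologicalSpace T] (A B : Set T) : Prop := IsLocallyClosed A

theorem topInv_denseIn : TopInv denseIn.{u} := by
  intro T T' _ _ q hqc hqo hqs A B
  change q ⁻¹' B ⊆ closure (q ⁻¹' A) ↔ B ⊆ closure A
  rw [← hqo.preimage_closure_eq_closure_preimage hqc A]
  exact Set.preimage_subset_preimage_iff (by rw [hqs.range_eq]; exact Set.subset_univ _)

theorem topInv_closedFst : TopInv closedFst.{u} := by
  intro T T' _ _ q hqc hqo hqs A B
  exact (hqo.isQuotientMap hqc hqs).isClosed_preimage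

theorem topInv_openFst : TopInv openFst.{u} := by
  intro T T' _ _ q hqc hqo hqs A B
  exact (hqo.isQuotientMap hqc hqs).isOpen_preimage

theorem topInv_locClosedFst : TopInv locClosedFst.{u} := by
  intro T T' _ _ q hqc hqo hqs A B
  change IsLocallyClosed (q ⁻¹' A) ↔ IsLocallyClosed A
  rw [isLocallyClosed_iff_isOpen_coborder, isLocallyClosed_iff_isOpen_coborder,
    coborder_preimage hqo hqc]
  exact (hqo.isQuotientMap hqc hqs).isOpen_preimage

/-- inclusion of traces on a fibre in terms of images. -/
theorem fibre_preimage_subset_iff {X S : Scheme.{u}} (f : X ⟶ S) (s : S) (A B : Set X) :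
    (f.fiberι s) ⁻¹' A ⊆ (f.fiberι s) ⁻¹' B ↔ s ∉ f '' (A \ B) := by
  constructor
  · rintro h ⟨x, ⟨hxA, hxB⟩, rfl⟩
    have hx : x ∈ Set.range (f.fiberι (f x)) := by
      rw [Scheme.Hom.range_fiberι]; rfl
    obtain ⟨t, ht⟩ := hx
    have h1 : t ∈ (f.fiberι (f x)) ⁻¹' A := by rw [Set.mem_preimage, ht]; exact hxA
    have h2 := h h1
    rw [Set.mem_preimage, ht] at h2
    exact hxB h2
  · intro h t htA
    by_contra htB
    apply h
    refine ⟨f.fiberι s t, ⟨htA, htB⟩, ?_⟩
    have : f.fiberι s t ∈ Set.range (f.fiberι s) := ⟨t, rfl⟩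
    rwa [Scheme.Hom.range_fiberι] at this

section Generic

variable {X S : Scheme.{u}} (f : X ⟶ S) [IsIntegral S] [IsNoetherian S] [LocallyOfFiniteType f]
  [QuasiCompact f]

/-- near the generic point, closedness of the trace on the fibre is the complement of a
constructible condition. -/
theorem exists_closed_iff (Z : Set X) (hZ : IsConstructible Z) :
    ∃ (V : S.Opens) (C : Set S), genericPoint S ∈ V ∧ IsConstructible C ∧
      ∀ s ∈ V, (IsClosed ((f.fiberι s) ⁻¹' Z) ↔ s ∉ C) := by
  haveI : IsLocallyNoetherian X := LocallyOfFiniteType.isLocallyNoetherian f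
  haveI : CompactSpace X := QuasiCompact.compactSpace_of_compactSpace f
  haveI : IsNoetherian X := {}
  obtain ⟨V, hV, hVeq⟩ := closure_fibre_eq_near_generic f Z hZ
  have hcl : IsConstructible (closure Z) :=
    Groth.Agent.Helper1.ConstrL.isConstructible_of_isLocallyClosed
      isClosed_closure.isLocallyClosed
  refine ⟨V, f '' (closure Z \ Z), hV, f.isConstructible_image (hcl.sdiff hZ), fun s hs => ?_⟩
  rw [← closure_subset_iff_isClosed, hVeq s hs]
  exact fibre_preimage_subset_iff f s _ _

end Generic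

theorem genericTop_denseIn : GenericTop denseIn.{u} := by
  intro X S f _ _ _ _ Z Z' hZ hZ'
  haveI : IsLocallyNoetherian X := LocallyOfFiniteType.isLocallyNoetherian f
  haveI : CompactSpace X := QuasiCompact.compactSpace_of_compactSpace f
  haveI : IsNoetherian X := {}
  obtain ⟨V, hV, hVeq⟩ := closure_fibre_eq_near_generic f Z hZ
  have hcl : IsConstructible (closure Z) :=
    Groth.Agent.Helper1.ConstrL.isConstructible_of_isLocallyClosed
      isClosed_closure.isLocallyClosed
  refine generic_of_eq_on_open (C := f '' (Z' \ closure Z))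
    (f.isConstructible_image (hZ'.sdiff hcl)) V hV fun s hs => ?_
  change (f.fiberι s) ⁻¹' Z' ⊆ closure ((f.fiberι s) ⁻¹' Z) ↔ _
  rw [hVeq s hs]
  exact fibre_preimage_subset_iff f s _ _

theorem genericTop_closedFst : GenericTop closedFst.{u} := by
  intro X S f _ _ _ _ Z Z' hZ hZ'
  obtain ⟨V, C, hV, hC, H⟩ := exists_closed_iff f Z hZ
  exact generic_of_eq_on_open hC V hV H

theorem locusTop_openFst {X S : Scheme.{u}} (f : X ⟶ S) (Z Z' : Set X) :
    locusTop openFst f Z Z' = locusTop closedFst f Zᶜ Z' := by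
  ext s
  change IsOpen ((f.fiberι s) ⁻¹' Z) ↔ IsClosed ((f.fiberι s) ⁻¹' Zᶜ)
  rw [Set.preimage_compl, isClosed_compl_iff]

theorem genericTop_openFst : GenericTop openFst.{u} := by
  intro X S f _ _ _ _ Z Z' hZ hZ'
  rw [locusTop_openFst]
  exact genericTop_closedFst f Zᶜ Z' hZ.compl hZ'

theorem genericTop_locClosedFst : GenericTop locClosedFst.{u} := by
  intro X S f _ _ _ _ Z Z' hZ hZ'
  haveI : IsLocallyNoetherian X := LocallyOfFiniteType.isLocallyNoetherian f
  haveI : CompactSpace X := QuasiCompact.compactSpace_of_compactSpace f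
  haveI : IsNoetherian X := {}
  obtain ⟨V₁, hV₁, hVeq⟩ := closure_fibre_eq_near_generic f Z hZ
  have hcl : IsConstructible (closure Z) :=
    Groth.Agent.Helper1.ConstrL.isConstructible_of_isLocallyClosed
      isClosed_closure.isLocallyClosed
  obtain ⟨V₂, C, hV₂, hC, H⟩ := exists_closed_iff f (closure Z \ Z) (hcl.sdiff hZ)
  refine generic_of_eq_on_open hC (V₁ ⊓ V₂) ⟨hV₁, hV₂⟩ fun s hs => ?_
  change IsLocallyClosed ((f.fiberι s) ⁻¹' Z) ↔ _
  rw [← H s hs.2, isLocallyClosed_iff_isOpen_coborder, coborder, isOpen_compl_iff, hVeq s hs.1,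
    Set.preimage_sdiff]

section Final

variable {X S : Scheme.{u}} (f : X ⟶ S)

theorem setOf_dense_eq (Z Z' : Set X) :
    {s : S | Z' ∩ f.base ⁻¹' {s} ⊆ closure (Z ∩ f.base ⁻¹' {s})} = locusTop denseIn f Z Z' := by
  ext s
  change Z' ∩ f ⁻¹' {s} ⊆ closure (Z ∩ f ⁻¹' {s}) ↔
    (f.fiberι s) ⁻¹' Z' ⊆ closure ((f.fiberι s) ⁻¹' Z)
  rw [(f.fiberι s).isEmbedding.isInducing.closure_eq_preimage_closure_image,
    Set.image_preimage_eq_inter_range, Scheme.Hom.range_fiberι]
  constructor
  · intro h t ht
    refine h ⟨ht, ?_⟩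
    have : f.fiberι s t ∈ Set.range (f.fiberι s) := ⟨t, rfl⟩
    rwa [Scheme.Hom.range_fiberι] at this
  · rintro h y ⟨hy, hys⟩
    have : y ∈ Set.range (f.fiberι s) := by rw [Scheme.Hom.range_fiberι]; exact hys
    obtain ⟨t, rfl⟩ := this
    exact h hy

theorem fiberι_preimage_eq (s : S) (Z : Set X) :
    (f.fiberι s) ⁻¹' Z = (f.fiberHomeo s) ⁻¹' (Subtype.val ⁻¹' Z) := by
  ext t; rfl

theorem setOf_isClosed_eq (Z : Set X) :
    {s : S | IsClosed (Subtype.val ⁻¹' Z : Set ↥(f.base ⁻¹' {s}))} = locusTop closedFst f Z Z := by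
  ext s
  change IsClosed (Subtype.val ⁻¹' Z : Set ↥(f ⁻¹' {s})) ↔ IsClosed ((f.fiberι s) ⁻¹' Z)
  rw [fiberι_preimage_eq, (f.fiberHomeo s).isClosed_preimage]

theorem setOf_isOpen_eq (Z : Set X) :
    {s : S | IsOpen (Subtype.val ⁻¹' Z : Set ↥(f.base ⁻¹' {s}))} = locusTop openFst f Z Z := by
  ext s
  change IsOpen (Subtype.val ⁻¹' Z : Set ↥(f ⁻¹' {s})) ↔ IsOpen ((f.fiberι s) ⁻¹' Z)
  rw [fiberι_preimage_eq, (f.fiberHomeo s).isOpen_preimage]

theorem setOf_isLocallyClosed_eq (Z : Set X) :
    {s : S | IsLocallyClosed (Subtype.val ⁻¹' Z : Set ↥(f.base ⁻¹' {s}))} =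
      locusTop locClosedFst f Z Z := by
  ext s
  change IsLocallyClosed (Subtype.val ⁻¹' Z : Set ↥(f ⁻¹' {s})) ↔
    IsLocallyClosed ((f.fiberι s) ⁻¹' Z)
  rw [fiberι_preimage_eq]
  exact (topInv_locClosedFst _ _ (f.fiberHomeo s) (f.fiberHomeo s).continuous
    (f.fiberHomeo s).isOpenMap (f.fiberHomeo s).surjective (Subtype.val ⁻¹' Z)
    (Subtype.val ⁻¹' Z)).symm

variable [LocallyOfFinitePresentation f] [QuasiCompact f] [QuasiSeparated f]

/-- EGA IV 9.5.3: the locus where the trace of `Z` is dense in the trace of `Z'`. -/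
theorem isLocallyConstructible_setOf_dense (Z Z' : Set X) (hZ : IsLocallyConstructible Z)
    (hZ' : IsLocallyConstructible Z') :
    IsLocallyConstructible
      {s : S | Z' ∩ f.base ⁻¹' {s} ⊆ closure (Z ∩ f.base ⁻¹' {s})} := by
  rw [setOf_dense_eq]
  exact isLocallyConstructible_locusTop topInv_denseIn genericTop_denseIn f Z Z' hZ hZ'

/-- EGA IV 9.5.4, closed case. -/
theorem isLocallyConstructible_setOf_isClosed (Z : Set X) (hZ : IsLocallyConstructible Z) :
    IsLocallyConstructible
      {s : S | IsClosed (Subtype.val ⁻¹' Z : Set ↥(f.base ⁻¹' {s}))} := by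
  rw [setOf_isClosed_eq]
  exact isLocallyConstructible_locusTop topInv_closedFst genericTop_closedFst f Z Z hZ hZ

/-- EGA IV 9.5.4, open case. -/
theorem isLocallyConstructible_setOf_isOpen (Z : Set X) (hZ : IsLocallyConstructible Z) :
    IsLocallyConstructible
      {s : S | IsOpen (Subtype.val ⁻¹' Z : Set ↥(f.base ⁻¹' {s}))} := by
  rw [setOf_isOpen_eq]
  exact isLocallyConstructible_locusTop topInv_openFst genericTop_openFst f Z Z hZ hZ

/-- EGA IV 9.5.4, locally closed case. -/
theorem isLocallyConstructible_setOf_isLocallyClosed (Z : Set X)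
    (hZ : IsLocallyConstructible Z) :
    IsLocallyConstructible
      {s : S | IsLocallyClosed (Subtype.val ⁻¹' Z : Set ↥(f.base ⁻¹' {s}))} := by
  rw [setOf_isLocallyClosed_eq]
  exact isLocallyConstructible_locusTop topInv_locClosedFst genericTop_locClosedFst f Z Z hZ hZ

end Final

section Dominant

variable {X Y S : Scheme.{u}} (f : X ⟶ Y) (g : Y ⟶ S)

theorem setOf_isDominant_eq :
    {s : S | IsDominant (MoreMor.fiberMap f g s)} =
      locusTop denseIn g (Set.range f) Set.univ := by
  ext s
  change IsDominant (MoreMor.fiberMap f g s) ↔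
    (g.fiberι s) ⁻¹' Set.univ ⊆ closure ((g.fiberι s) ⁻¹' Set.range f)
  rw [← range_snd_of_isPullback (Groth.Agent.Helper7.ConsMor.isPullback_fiberMap f g s),
    Set.preimage_univ, Set.univ_subset_iff, ← dense_iff_closure_eq]
  exact isDominant_iff _

/-- EGA IV 9.6.1 (ii): the locus where the morphism of fibres is dominant. -/
theorem isLocallyConstructible_setOf_isDominant
    [LocallyOfFinitePresentation g] [QuasiCompact g] [QuasiSeparated g]
    [LocallyOfFinitePresentation (f ≫ g)] [QuasiCompact (f ≫ g)] [QuasiSeparated (f ≫ g)] :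
    IsLocallyConstructible {s : S | IsDominant (MoreMor.fiberMap f g s)} := by
  rw [setOf_isDominant_eq]
  haveI : LocallyOfFinitePresentation f :=
    Groth.Agent.Helper2.locallyOfFinitePresentation_of_comp f g inferInstance inferInstance
  haveI : QuasiCompact f := QuasiCompact.of_comp f g
  have hr : IsLocallyConstructible (Set.range f) := by
    rw [← Set.image_univ]
    exact f.isLocallyConstructible_image IsLocallyConstructible.univ
  exact isLocallyConstructible_locusTop topInv_denseIn genericTop_denseIn g _ _ hr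
    IsLocallyConstructible.univ

end Dominant

end Groth.Agent.Helper7.FibTop
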