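import Mathlib
import Groth.Agent.Lib.Helper7.FibTop.Props

set_option autoImplicit false
set_option linter.style.haveILetI false
set_option linter.unusedVariables false
set_option linter.unusedSectionVars false
set_option backward.isDefEq.respectTransparency.types false

open CategoryTheory CategoryTheory.Limits AlgebraicGeometry Opposite Topology TopologicalSpace

universe u

/-! helper7: the diagonal of a base change is a base change of the diagonal, and the locus where
the morphism of fibres is separated is locally constructible (EGA IV 9.6.1). -/

namespace Groth.Agent.Helper7.FibTop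

section Diag

variable {X Y X' Y' : Scheme.{u}} {f : X ⟶ Y} {f' : X' ⟶ Y'} {i : X' ⟶ X} {j : Y' ⟶ Y}

/-- the map between the self-products induced by a cartesian square. -/
noncomputable abbrev diagMap (h : IsPullback i f' f j) : pullback f' f' ⟶ pullback f f :=
  pullback.map f' f' f f i i j h.w.symm h.w.symm

theorem isPullback_diagMap_fst (h : IsPullback i f' f j) :
    IsPullback (diagMap h) (pullback.fst f' f') (pullback.fst f f) i := by
  refine IsPullback.of_right ?_ (pullback.lift_fst _ _ _) (IsPullback.of_hasPullback f f).flip
  have h1 := (IsPullback.of_hasPullback f' f').flip.paste_horiz h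
  rw [← h.w] at h1
  have e : diagMap h ≫ pullback.snd f f = pullback.snd f' f' ≫ i := pullback.lift_snd _ _ _
  rw [e]
  exact h1

theorem isPullback_diagMap_base (h : IsPullback i f' f j) :
    IsPullback (diagMap h) (pullback.fst f' f' ≫ f') (pullback.fst f f ≫ f) j :=
  (isPullback_diagMap_fst h).paste_vert h

theorem isPullback_diagonal (h : IsPullback i f' f j) :
    IsPullback i (pullback.diagonal f') (pullback.diagonal f) (diagMap h) := by
  have h1 : IsPullback (pullback.diagonal f') i (diagMap h) (pullback.diagonal f) := by
    refine IsPullback.of_right ?_ ?_ (isPullback_diagMap_fst h).flip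
    · rw [pullback.diagonal_fst, pullback.diagonal_fst]
      exact IsPullback.of_horiz_isIso ⟨by simp⟩
    · apply pullback.hom_ext
      · rw [Category.assoc, Category.assoc, pullback.lift_fst, pullback.diagonal_fst,
          pullback.diagonal_fst_assoc, Category.comp_id]
      · rw [Category.assoc, Category.assoc, pullback.lift_snd, pullback.diagonal_snd,
          pullback.diagonal_snd_assoc, Category.comp_id]
  exact h1.flip

end Diag

section Sep

variable {X Y S : Scheme.{u}} (f : X ⟶ Y) (g : Y ⟶ S)

/-- the structure morphism of the self-product of `X` over `Y`. -/
noncomputable abbrev selfProdHom : pullback f f ⟶ S := (pullback.fst f f ≫ f) ≫ g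

set_option backward.isDefEq.respectTransparency false in
theorem isSeparated_fiberMap_iff (s : S) :
    IsSeparated (MoreMor.fiberMap f g s) ↔
      IsClosed (((selfProdHom f g).fiberι s) ⁻¹' Set.range (pullback.diagonal f)) := by
  have h := Groth.Agent.Helper7.ConsMor.isPullback_fiberMap f g s
  have hg : IsPullback (g.fiberι s) (g.fiberToSpecResidueField s) g
      (S.fromSpecResidueField s) := IsPullback.of_hasPullback _ _
  have hb := (isPullback_diagMap_base h).paste_vert hg
  have he : hb.isoPullback.hom ≫ (selfProdHom f g).fiberι s = diagMap h := hb.isoPullback_hom_fst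
  have hr : Set.range (pullback.diagonal (MoreMor.fiberMap f g s)) =
      (diagMap h) ⁻¹' Set.range (pullback.diagonal f) :=
    range_snd_of_isPullback (isPullback_diagonal h)
  have hr' : Set.range (pullback.diagonal (MoreMor.fiberMap f g s)) =
      hb.isoPullback.hom ⁻¹'
        (((selfProdHom f g).fiberι s) ⁻¹' Set.range (pullback.diagonal f)) := by
    rw [hr]
    ext t
    have := congrArg (fun φ => φ.base t) he
    simp only [Scheme.Hom.comp_base, TopCat.comp_app] at this
    simp only [Set.mem_preimage]
    rw [← this]
    exact Iff.rfl
  constructor
  · intro hs
    have hc : IsClosed (Set.range (pullback.diagonal (MoreMor.fiberMap f g s))) :=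
      (pullback.diagonal (MoreMor.fiberMap f g s)).isClosedEmbedding.isClosed_range
    rw [hr'] at hc
    exact ((Scheme.homeoOfIso hb.isoPullback).isClosed_preimage).mp hc
  · intro hc
    have : IsClosed (Set.range (pullback.diagonal (MoreMor.fiberMap f g s))) := by
      rw [hr']
      exact hc.preimage hb.isoPullback.hom.continuous
    exact ⟨IsClosedImmersion.of_isPreimmersion _ this⟩

theorem setOf_isSeparated_eq :
    {s : S | IsSeparated (MoreMor.fiberMap f g s)} =
      locusTop closedFst (selfProdHom f g) (Set.range (pullback.diagonal f))
        (Set.range (pullback.diagonal f)) := by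
  ext s
  exact isSeparated_fiberMap_iff f g s

set_option backward.isDefEq.respectTransparency false in
/-- EGA IV 9.6.1: the locus where the morphism of fibres is separated. -/
theorem isLocallyConstructible_setOf_isSeparated
    [LocallyOfFinitePresentation g] [QuasiCompact g] [QuasiSeparated g]
    [LocallyOfFinitePresentation (f ≫ g)] [QuasiCompact (f ≫ g)] [QuasiSeparated (f ≫ g)] :
    IsLocallyConstructible {s : S | IsSeparated (MoreMor.fiberMap f g s)} := by
  rw [setOf_isSeparated_eq]
  haveI : LocallyOfFinitePresentation f :=
    Groth.Agent.Helper2.locallyOfFinitePresentation_of_comp f g inferInstance inferInstance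
  haveI : QuasiCompact f := QuasiCompact.of_comp f g
  haveI : QuasiSeparated f := QuasiSeparated.of_comp f g
  haveI : LocallyOfFinitePresentation (selfProdHom f g) := by
    unfold selfProdHom; rw [Category.assoc]; infer_instance
  haveI : QuasiCompact (selfProdHom f g) := by
    unfold selfProdHom; rw [Category.assoc]; infer_instance
  haveI : QuasiSeparated (selfProdHom f g) := by
    unfold selfProdHom; rw [Category.assoc]; infer_instance
  have hΔ : IsLocallyConstructible (Set.range (pullback.diagonal f)) := by
    haveI : LocallyOfFinitePresentation (pullback.diagonal f) :=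
      Groth.Agent.Helper2.locallyOfFinitePresentation_of_comp (pullback.diagonal f)
        (pullback.fst f f) inferInstance (by rw [pullback.diagonal_fst]; infer_instance)
    rw [← Set.image_univ]
    exact (pullback.diagonal f).isLocallyConstructible_image IsLocallyConstructible.univ
  exact isLocallyConstructible_locusTop topInv_closedFst genericTop_closedFst _ _ _ hΔ hΔ

end Sep

end Groth.Agent.Helper7.FibTop
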